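import Groth.Agent.Lib.VarDim.Alg
import Mathlib

/-!
# Generic finiteness from a bound on Zariski tangent spaces
-/

set_option autoImplicit false

universe u

namespace TanDim29

open MvPolynomial

variable {k : Type u} [Field k] {τ : Type} [Fintype τ]

/-- the differential of a polynomial at a point -/
noncomputable def dg (v : τ → k) (g : MvPolynomial τ k) : (τ → k) →ₗ[k] k :=
  ∑ s, eval v (pderiv s g) • LinearMap.proj s

/-- the Zariski tangent space at a point -/
noncomputable def tan (gens : Set (MvPolynomial τ k)) (v : τ → k) : Submodule k (τ → k) :=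
  ⨅ g ∈ gens, LinearMap.ker (dg v g)

theorem dg_apply (v w : τ → k) (g : MvPolynomial τ k) :
    dg v g w = ∑ s, eval v (pderiv s g) * w s := by
  simp [dg]

open DualNumber TrivSqZeroExt in
theorem aeval_dual (v w : τ → k) (g : MvPolynomial τ k) :
    aeval (fun s => (inl (v s) + inr (w s) : DualNumber k)) g = inl (eval v g) + inr (dg v g w) := by
  classical
  rw [dg_apply]
  induction g using MvPolynomial.induction_on with
  | C a => simp [TrivSqZeroExt.algebraMap_eq_inl]
  | add f g hf hg =>
    simp only [map_add, hf, hg, add_mul, Finset.sum_add_distrib]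
    rw [inl_add, inr_add]; abel
  | mul_X f i hf =>
    rw [map_mul, aeval_X, hf]
    refine TrivSqZeroExt.ext ?_ ?_
    · simp
    · simp only [TrivSqZeroExt.snd_mul, fst_add, fst_inl, fst_inr, add_zero, snd_add, snd_inl, snd_inr, zero_add,
        smul_eq_mul, op_smul_eq_smul, pderiv_mul, pderiv_X, map_add, map_mul, eval_X]
      simp [Pi.single_apply, apply_ite (eval v), add_mul, Finset.sum_add_distrib,
        Finset.sum_mul, mul_comm, mul_left_comm, add_comm]
      simp only [mul_add, Finset.sum_add_distrib, mul_ite, mul_zero, Finset.sum_ite_eq,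
        Finset.mem_univ, if_true, Finset.mul_sum]
      congr 1
      exact Finset.sum_congr rfl fun _ _ => by ring

theorem mem_tan_iff {gens : Set (MvPolynomial τ k)} {v w : τ → k} :
    w ∈ tan gens v ↔ ∀ g ∈ gens, dg v g w = 0 := by
  simp [tan, Submodule.mem_iInf]

/-- first order Taylor expansion modulo the square of the maximal ideal -/
theorem sub_linear_mem_sq (v : τ → k) (g : MvPolynomial τ k) :
    g - C (eval v g) - ∑ s, C (eval v (pderiv s g)) * (X s - C (v s)) ∈
      Ideal.span (Set.range fun s => (X s - C (v s) : MvPolynomial τ k)) ^ 2 := by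
  classical
  set m := Ideal.span (Set.range fun s => (X s - C (v s) : MvPolynomial τ k)) with hm
  have hmem : ∀ s, (X s - C (v s) : MvPolynomial τ k) ∈ m := fun s => Ideal.subset_span ⟨s, rfl⟩
  induction g using MvPolynomial.induction_on with
  | C a => simp
  | add f g hf hg =>
    have := add_mem hf hg
    convert this using 1
    simp only [map_add, add_mul, Finset.sum_add_distrib]; ring
  | mul_X f i hf =>
    set L := ∑ s, C (eval v (pderiv s f)) * (X s - C (v s)) with hL
    have hLm : L ∈ m := Ideal.sum_mem _ fun s _ => Ideal.mul_mem_left _ _ (hmem s)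
    have hsum : ∑ s, C (eval v (pderiv s (f * X i))) * (X s - C (v s)) =
        C (v i) * L + C (eval v f) * (X i - C (v i)) := by
      have hterm : ∀ s, C (eval v (pderiv s (f * X i))) * (X s - C (v s)) =
          C (v i) * (C (eval v (pderiv s f)) * (X s - C (v s))) +
            if i = s then C (eval v f) * (X s - C (v s)) else 0 := by
        intro s
        rcases eq_or_ne i s with rfl | h
        · simp [pderiv_mul]; ring
        · simp [pderiv_mul, pderiv_X_of_ne h, h]; ring
      rw [Finset.sum_congr rfl fun s _ => hterm s, Finset.sum_add_distrib, ← Finset.mul_sum, ← hL,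
        Finset.sum_ite_eq, if_pos (Finset.mem_univ i)]
    rw [hsum, map_mul, eval_X, C_mul,
      show f * X i - C (eval v f) * C (v i) - (C (v i) * L + C (eval v f) * (X i - C (v i))) =
        (f - C (eval v f) - L) * X i + L * (X i - C (v i)) by ring]
    refine add_mem (Ideal.mul_mem_right _ _ hf) ?_
    rw [sq]; exact Ideal.mul_mem_mul hLm (hmem i)

/-- few linear forms complement the differentials -/
theorem exists_complement (gens : Set (MvPolynomial τ k)) (v : τ → k) {m : ℕ}
    (h : Module.finrank k (tan gens v) ≤ m) :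
    ∃ c : Fin m → (τ → k), Submodule.span k (Set.range c) ⊔
      Submodule.span k ((fun g => fun s => eval v (pderiv s g)) '' gens) = ⊤ := by
  classical
  set D := Submodule.span k ((fun g => fun s => eval v (pderiv s g)) '' gens) with hD
  obtain ⟨C', hC'⟩ := Submodule.exists_isCompl D
  -- the orthogonal of `D` is the tangent space
  let B : (τ → k) →ₗ[k] Module.Dual k (τ → k) :=
    { toFun := fun c => ∑ s, c s • LinearMap.proj s
      map_add' := fun a b => by simp [add_smul, Finset.sum_add_distrib]
      map_smul' := fun a b => by simp [mul_smul, Finset.smul_sum] }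
  have hB : Function.Bijective B := by
    refine ⟨?_, ?_⟩
    · rw [injective_iff_map_eq_zero]
      intro c hc
      funext s
      have := LinearMap.congr_fun hc (Pi.single s 1)
      simpa [B, Pi.single_apply] using this
    · intro φ
      refine ⟨fun s => φ (Pi.single s 1), ?_⟩
      refine LinearMap.pi_ext fun s x => ?_
      simp only [B, LinearMap.coe_mk, AddHom.coe_mk, LinearMap.coe_sum, Finset.sum_apply,
        LinearMap.smul_apply, LinearMap.proj_apply, smul_eq_mul]
      rw [Finset.sum_eq_single s]
      · rw [show Pi.single s x = x • Pi.single s (1 : k) by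
          rw [← Pi.single_smul', smul_eq_mul, mul_one], map_smul, smul_eq_mul, Pi.smul_apply,
          Pi.single_eq_same, smul_eq_mul, mul_one, mul_comm]
      · intro b _ hb; simp [Pi.single_eq_of_ne hb]
      · simp
  let e := LinearEquiv.ofBijective B hB
  have hco : (D.map (e : (τ → k) →ₗ[k] Module.Dual k (τ → k))).dualCoannihilator = tan gens v := by
    ext w
    rw [Submodule.mem_dualCoannihilator, mem_tan_iff]
    constructor
    · intro hw g hg
      exact hw _ ⟨fun s => eval v (pderiv s g), Submodule.subset_span ⟨g, hg, rfl⟩, rfl⟩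
    · rintro hw _ ⟨c, hc, rfl⟩
      induction hc using Submodule.span_induction with
      | mem x hx => obtain ⟨g, hg, rfl⟩ := hx; exact hw g hg
      | zero => simp
      | add a b _ _ ha hb => rw [map_add, LinearMap.add_apply, ha, hb, add_zero]
      | smul a b _ hb => rw [map_smul, LinearMap.smul_apply, hb, smul_zero]
  have hdim : Module.finrank k C' ≤ m := by
    have h1 := Submodule.finrank_add_eq_of_isCompl hC'
    have h2 := Subspace.finrank_add_finrank_dualCoannihilator_eq
      (D.map (e : (τ → k) →ₗ[k] Module.Dual k (τ → k)))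
    rw [hco, LinearEquiv.finrank_map_eq] at h2
    omega
  obtain ⟨c, hc⟩ : ∃ c : Fin m → (τ → k), C' ≤ Submodule.span k (Set.range c) := by
    let b := Module.finBasis k C'
    refine ⟨fun i => if hi : (i : ℕ) < Module.finrank k C' then (b ⟨i, hi⟩ : τ → k) else 0, ?_⟩
    intro x hx
    have h := congrArg (Submodule.map C'.subtype) b.span_eq
    rw [Submodule.map_span, Submodule.map_subtype_top, ← Set.range_comp] at h
    rw [← h] at hx
    refine Submodule.span_mono ?_ hx
    rintro _ ⟨j, rfl⟩
    exact ⟨⟨j, lt_of_lt_of_le j.2 hdim⟩, by simp⟩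
  refine ⟨c, top_unique (le_trans (le_of_eq hC'.symm.sup_eq_top.symm) ?_)⟩
  exact sup_le_sup_right hc _

variable [IsAlgClosed k]

/-- the dimension of a prime containing the equations is bounded by the tangent bound -/
theorem tdeg_le (gens : Set (MvPolynomial τ k)) {m : ℕ}
    (htan : ∀ v : τ → k, (∀ g ∈ gens, eval v g = 0) → Module.finrank k (tan gens v) ≤ m)
    (q : Ideal (MvPolynomial τ k)) [q.IsPrime] (hq : Ideal.span gens ≤ q) :
    Algebra.trdeg k (MvPolynomial τ k ⧸ q) ≤ m := by
  classical
  set R := MvPolynomial τ k ⧸ q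
  suffices h : ringKrullDim R ≤ (m : WithBot ℕ∞) by
    rw [Groth.Agent.VarDim.ringKrullDim_eq_tdeg k R] at h
    rw [Groth.Agent.VarDim.trdeg_eq_tdeg k R]
    exact_mod_cast h
  rw [ringKrullDim_le_iff_isMaximal_height_le]
  intro M hM
  set π := Ideal.Quotient.mk q
  haveI := Ideal.comap_isMaximal_of_surjective π Ideal.Quotient.mk_surjective (K := M)
  obtain ⟨v, hv⟩ := (MvPolynomial.isMaximal_iff_eq_vanishingIdeal_singleton).1
    (inferInstance : (M.comap π).IsMaximal)
  have hmemM : ∀ f, eval v f = 0 → π f ∈ M := fun f hf => by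
    show f ∈ M.comap π
    rw [hv, mem_vanishingIdeal_singleton_iff]
    simpa [aeval_def, eval₂_id] using hf
  have hMv : ∀ f, π f ∈ M → eval v f = 0 := fun f hf => by
    have : f ∈ M.comap π := hf
    rw [hv, mem_vanishingIdeal_singleton_iff] at this
    simpa [aeval_def, eval₂_id] using this
  have hgen : ∀ g ∈ gens, π g = 0 := fun g hg =>
    Ideal.Quotient.eq_zero_iff_mem.2 (hq (Ideal.subset_span hg))
  have hzero : ∀ g ∈ gens, eval v g = 0 := fun g hg => hMv g (by rw [hgen g hg]; exact M.zero_mem)
  obtain ⟨c, hc⟩ := exists_complement gens v (htan v hzero)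
  suffices hL : ∀ (L : Type u) [CommRing L] [IsLocalRing L] [IsNoetherianRing L] [Algebra R L]
      [IsLocalization.AtPrime L M], (M.height : WithBot ℕ∞) ≤ (m : WithBot ℕ∞) from
    hL (Localization.AtPrime M)
  intro L _ _ _ _ _
  set ψ : MvPolynomial τ k →+* L := (algebraMap R L).comp π
  set y : Fin m → L := fun i => ψ (∑ s, C (c i s) * (X s - C (v s))) with hy
  set mm := IsLocalRing.maximalIdeal L with hmm
  have hx : ∀ s, ψ (X s - C (v s)) ∈ mm := fun s =>
    (IsLocalization.AtPrime.to_map_mem_maximal_iff L M _).2 (hmemM _ (by simp))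
  let Φ : (τ → k) →+ L := AddMonoidHom.mk' (fun a => ψ (∑ s, C (a s) * (X s - C (v s))))
    (fun a b => by simp [add_mul, Finset.sum_add_distrib])
  have hkey : ∀ a : τ → k, Φ a ∈ Ideal.span (Set.range y) ⊔ mm * mm := by
    intro a
    have ha : a ∈ (⊤ : Submodule k (τ → k)) := trivial
    rw [← hc, ← Submodule.span_union] at ha
    induction ha using Submodule.span_induction with
    | mem x hx' =>
      rcases hx' with ⟨i, rfl⟩ | ⟨g, hg, rfl⟩
      · exact Ideal.mem_sup_left (Ideal.subset_span ⟨i, rfl⟩)
      · refine Ideal.mem_sup_right ?_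
        have hsq := Ideal.mem_map_of_mem ψ (sub_linear_mem_sq v g)
        rw [Ideal.map_pow, hzero g hg, C_0] at hsq
        have hψg : ψ g = 0 := by simp [ψ, hgen g hg]
        have hle : Ideal.map ψ (Ideal.span (Set.range fun s => (X s - C (v s) : MvPolynomial τ k))) ≤ mm := by
          rw [Ideal.map_span, Ideal.span_le]
          rintro _ ⟨_, ⟨s, rfl⟩, rfl⟩
          exact hx s
        have h2 := Ideal.pow_right_mono hle 2 hsq
        rw [sq] at h2
        have hΦg : Φ (fun s => eval v (pderiv s g)) =
            -(ψ (g - 0 - ∑ s, C (eval v (pderiv s g)) * (X s - C (v s)))) := by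
          rw [map_sub ψ, map_sub ψ, hψg, map_zero ψ, sub_self, zero_sub, neg_neg]
          rfl
        rw [hΦg]
        exact Ideal.neg_mem_iff _ |>.2 h2
    | zero => simp
    | add x y _ _ hx' hy' => rw [map_add]; exact add_mem hx' hy'
    | smul r x _ hx' =>
      have : Φ (r • x) = ψ (C r) * Φ x := by
        show ψ _ = ψ _ * ψ _
        rw [← map_mul, Finset.mul_sum]
        simp [mul_assoc]
      rw [this]
      exact Ideal.mul_mem_left _ _ hx'
  have hmax : mm ≤ Ideal.span (Set.range fun s => ψ (X s - C (v s))) := by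
    rw [hmm, ← IsLocalization.AtPrime.map_eq_maximalIdeal M L, Ideal.map_le_iff_le_comap]
    intro r hr
    obtain ⟨f, rfl⟩ := Ideal.Quotient.mk_surjective r
    have hf0 := hMv f hr
    have hmem := sub_linear_mem_sq v f
    rw [hf0, C_0, sub_zero] at hmem
    have hspan : f ∈ Ideal.span (Set.range fun s => (X s - C (v s) : MvPolynomial τ k)) := by
      have h2 := add_mem (Ideal.pow_le_self two_ne_zero hmem)
        (Ideal.sum_mem _ (fun s (_ : s ∈ (Finset.univ : Finset τ)) =>
          Ideal.mul_mem_left _ (C (eval v (pderiv s f))) (Ideal.subset_span ⟨s, rfl⟩)))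
      simpa using h2
    have := Ideal.mem_map_of_mem ψ hspan
    rw [Ideal.map_span, ← Set.range_comp] at this
    exact this
  have hjac : mm ≤ (⊥ : Ideal L).jacobson := by
    rw [IsLocalRing.jacobson_eq_maximalIdeal (⊥ : Ideal L) bot_ne_top]
  have hnak : mm ≤ Ideal.span (Set.range y) := by
    refine Submodule.le_of_le_smul_of_le_jacobson_bot (I := mm) (N' := mm)
      (IsNoetherian.noetherian _) hjac ?_
    refine hmax.trans (Ideal.span_le.2 ?_)
    rintro _ ⟨s, rfl⟩
    have := hkey (Pi.single s 1)
    simpa [Φ, Pi.single_apply, apply_ite (C : k → MvPolynomial τ k), ite_mul] using this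
  have hle : (Ideal.span (Set.range y)) ≤ mm := by
    rw [Ideal.span_le]
    rintro _ ⟨i, rfl⟩
    show ψ _ ∈ mm
    rw [map_sum]
    exact Ideal.sum_mem _ fun s _ => by rw [map_mul]; exact Ideal.mul_mem_left _ _ (hx s)
  have hrank : mm.spanFinrank ≤ m := by
    rw [le_antisymm hnak hle]
    refine (Submodule.spanFinrank_span_le_ncard_of_finite (Set.finite_range y)).trans ?_
    rw [← Set.image_univ]
    exact (Set.ncard_image_le Set.finite_univ).trans (by simp)
  have hdim := ringKrullDim_le_spanFinrank_maximalIdeal L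
  rw [IsLocalization.AtPrime.ringKrullDim_eq_height M L] at hdim
  exact hdim.trans (by exact_mod_cast hrank)

/-- generic finiteness of fibres -/
theorem generic_finite (gens : Set (MvPolynomial τ k)) {n : ℕ} (π : Fin n → τ)
    (htan : ∀ v : τ → k, (∀ g ∈ gens, eval v g = 0) → Module.finrank k (tan gens v) ≤ n) :
    ∃ Φ : MvPolynomial (Fin n) k, Φ ≠ 0 ∧ ∀ P : Fin n → k, eval P Φ ≠ 0 →
      {v : τ → k | (∀ g ∈ gens, eval v g = 0) ∧ v ∘ π = P}.Finite ∧
      ((∀ v : τ → k, (∀ g ∈ gens, eval v g = 0) → Module.finrank k (tan gens v) < n) →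
        {v : τ → k | (∀ g ∈ gens, eval v g = 0) ∧ v ∘ π = P} = ∅) := by
  classical
  set I := Ideal.span gens with hI
  have hfin := Ideal.finite_minimalPrimes_of_isNoetherianRing (MvPolynomial τ k) I
  -- one polynomial for each component
  have hone : ∀ q ∈ I.minimalPrimes, ∃ Φ : MvPolynomial (Fin n) k, Φ ≠ 0 ∧ ∀ P : Fin n → k,
      eval P Φ ≠ 0 → (∀ s, ∃ p : Polynomial k, p ≠ 0 ∧
        ∀ v : τ → k, (∀ f ∈ q, eval v f = 0) → v ∘ π = P → p.IsRoot (v s)) ∧
      ((∀ v : τ → k, (∀ g ∈ gens, eval v g = 0) → Module.finrank k (tan gens v) < n) →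
        ∀ v : τ → k, (∀ f ∈ q, eval v f = 0) → v ∘ π ≠ P) := by
    intro q hq
    haveI := hq.1.1
    set R := MvPolynomial τ k ⧸ q
    set x : τ → R := fun s => Ideal.Quotient.mk q (X s) with hx
    have hev : ∀ {σ : Type} (t : σ → τ) (g : MvPolynomial σ k), aeval (x ∘ t) g = 0 →
        ∀ v : τ → k, (∀ f ∈ q, eval v f = 0) → eval (v ∘ t) g = 0 := by
      intro σ t g hg v hv
      have : rename t g ∈ q := by
        rw [← Ideal.Quotient.eq_zero_iff_mem, ← hg]
        show (Ideal.Quotient.mkₐ k q) (rename t g) = aeval (x ∘ t) g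
        have h : (Ideal.Quotient.mkₐ k q).comp (rename t) = aeval (x ∘ t) := by
          apply MvPolynomial.algHom_ext; intro i; simp [hx]
        rw [← h]; rfl
      rw [← eval_rename]; exact hv _ this
    by_cases hdep : AlgebraicIndependent k (x ∘ π)
    · have hle := tdeg_le gens htan q hq.1.2
      have halg : ∀ s, ∃ g : MvPolynomial (Option (Fin n)) k, g ≠ 0 ∧
          aeval (x ∘ fun o => Option.elim o s π) g = 0 := by
        intro s
        by_contra hno
        push Not at hno
        have hind : AlgebraicIndependent k (x ∘ fun o => Option.elim o s π) :=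
          (injective_iff_map_eq_zero _).2 fun g hg => by_contra fun hg0 => hno g hg0 hg
        have := hind.lift_cardinalMk_le_trdeg.trans (Cardinal.lift_le.2 hle)
        simp at this
      choose g hg0 hg using halg
      set G : τ → Polynomial (MvPolynomial (Fin n) k) := fun s => optionEquivLeft k (Fin n) (g s)
      have hG : ∀ s, G s ≠ 0 := fun s h => hg0 s ((EmbeddingLike.map_eq_zero_iff.1 h))
      refine ⟨∏ s, (G s).leadingCoeff,
        Finset.prod_ne_zero_iff.2 fun s _ => Polynomial.leadingCoeff_ne_zero.2 (hG s),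
        fun P hP => ⟨fun s => ?_, fun hlt v hv => ?_⟩⟩
      · rw [map_prod, Finset.prod_ne_zero_iff] at hP
        refine ⟨(G s).map (eval P), fun h => hP s (Finset.mem_univ s) ?_, fun v hv hvP => ?_⟩
        · have := congrArg (fun p => p.coeff (G s).natDegree) h
          simpa using this
        · have h := hev (fun o => Option.elim o s π) (g s) (hg s) v hv
          rw [Polynomial.IsRoot.def]
          have h2 : ∀ f : MvPolynomial (Option (Fin n)) k,
              ((optionEquivLeft k (Fin n) f).map (eval P)).eval (v s) =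
                eval (v ∘ fun o => Option.elim o s π) f := by
            intro f
            induction f using MvPolynomial.induction_on with
            | C a => simp
            | add a b ha hb => simp [Polynomial.map_add, ha, hb]
            | mul_X a o ha =>
              rw [map_mul, Polynomial.map_mul, Polynomial.eval_mul, ha]
              cases o with
              | none => simp
              | some i => simp [← hvP]
          rw [h2]; exact h
      · -- impossible: an independent family of size `n` in transcendence degree `< n`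
        intro _
        have hm : ∀ w : τ → k, (∀ g ∈ gens, eval w g = 0) → Module.finrank k (tan gens w) ≤ n - 1 :=
          fun w hw => by have := hlt w hw; omega
        have := hdep.lift_cardinalMk_le_trdeg.trans (Cardinal.lift_le.2 (tdeg_le gens hm q hq.1.2))
        simp at this
        have := hlt v (fun g hg => hv g (hq.1.2 (Ideal.subset_span hg)))
        omega
    · simp only [algebraicIndependent_iff_injective_aeval, injective_iff_map_eq_zero] at hdep
      push Not at hdep
      obtain ⟨Φ, hΦ, hΦ0⟩ := hdep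
      have hne : ∀ P : Fin n → k, eval P Φ ≠ 0 → ∀ v : τ → k, (∀ f ∈ q, eval v f = 0) → v ∘ π ≠ P :=
        fun P hP v hv hvP => hP (hvP ▸ hev π Φ hΦ v hv)
      exact ⟨Φ, hΦ0, fun P hP => ⟨fun s => ⟨Polynomial.X, Polynomial.X_ne_zero,
        fun v hv hvP => absurd hvP (hne P hP v hv)⟩, fun _ v hv => hne P hP v hv⟩⟩
  choose Φ hΦ0 hΦ using hone
  have hcover : ∀ v : τ → k, (∀ g ∈ gens, eval v g = 0) →
      ∃ q ∈ I.minimalPrimes, ∀ f ∈ q, eval v f = 0 := by
    intro v hv
    haveI : (RingHom.ker (eval v)).IsPrime := RingHom.ker_isPrime _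
    obtain ⟨q, hq, hqle⟩ := Ideal.exists_minimalPrimes_le
      (show I ≤ RingHom.ker (eval v) by rw [hI, Ideal.span_le]; exact hv)
    exact ⟨q, hq, fun f hf => hqle hf⟩
  haveI := hfin.to_subtype
  cases nonempty_fintype I.minimalPrimes
  refine ⟨∏ q : I.minimalPrimes, Φ q q.2, Finset.prod_ne_zero_iff.2 fun q _ => hΦ0 q q.2,
    fun P hP => ?_⟩
  rw [map_prod, Finset.prod_ne_zero_iff] at hP
  refine ⟨?_, fun hlt => ?_⟩
  · choose p hp0 hp using fun (q : I.minimalPrimes) s =>
      (hΦ q q.2 P (hP q (Finset.mem_univ q))).1 s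
    refine Set.Finite.subset
      (Set.Finite.pi (t := fun s => {a | ∃ q : I.minimalPrimes, (p q s).IsRoot a}) fun s => ?_) ?_
    · have hU : {a | ∃ q : I.minimalPrimes, (p q s).IsRoot a} =
          ⋃ q : I.minimalPrimes, {a | (p q s).IsRoot a} := by ext; simp
      rw [hU]
      exact Set.finite_iUnion fun q => Polynomial.finite_setOf_isRoot (hp0 q s)
    · rintro v ⟨hv, hvP⟩ s -
      obtain ⟨q, hq, hqv⟩ := hcover v hv
      exact ⟨⟨q, hq⟩, hp ⟨q, hq⟩ s v hqv hvP⟩
  · rw [Set.eq_empty_iff_forall_notMem]
    rintro v ⟨hv, hvP⟩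
    obtain ⟨q, hq, hqv⟩ := hcover v hv
    exact (hΦ q hq P (hP ⟨q, hq⟩ (Finset.mem_univ _))).2 hlt v hqv hvP

end TanDim29
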